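import Mathlib.AlgebraicGeometry.Morphisms.Separated
import Mathlib.AlgebraicGeometry.Morphisms.ClosedImmersion
import Mathlib.AlgebraicGeometry.Properties
import Mathlib.CategoryTheory.Endomorphism
import Mathlib.AlgebraicGeometry.Limits

/-!
A faithful action of a finite group on an integral separated scheme is almost free.
-/

set_option autoImplicit false
set_option linter.style.haveILetI false
universe u

open CategoryTheory CategoryTheory.Limits AlgebraicGeometry

namespace Groth.Agent.RatV44

/-- An endomorphism over a separated base fixes a closed set of points, which is everything only for the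
identity of a reduced scheme. -/
theorem exists_fixed_closed {X B : Scheme.{u}} (f : X ⟶ B) [IsSeparated f] [IsReduced X] (σ : X ⟶ X)
    (hσ : σ ≫ f = f) :
    ∃ F : Set X, IsClosed F ∧ (F = Set.univ → σ = 𝟙 X) ∧
      ∀ (T : Scheme.{u}) (x : T ⟶ X), x ≫ σ = x → Set.range x.base ⊆ F := by
  let d : X ⟶ pullback f f := pullback.lift σ (𝟙 X) (by rw [hσ, Category.id_comp])
  let i := pullback.fst d (pullback.diagonal f)
  haveI : IsClosedImmersion i := MorphismProperty.pullback_fst _ _ inferInstance
  have hi : i ≫ σ = i := by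
    have h1 := congrArg (fun m => m ≫ pullback.fst f f) (pullback.condition (f := d) (g := pullback.diagonal f))
    have h2 := congrArg (fun m => m ≫ pullback.snd f f) (pullback.condition (f := d) (g := pullback.diagonal f))
    simp only [d, Category.assoc, pullback.lift_fst, pullback.lift_snd, pullback.diagonal_fst,
      pullback.diagonal_snd, Category.comp_id] at h1 h2
    exact h1.trans h2.symm
  refine ⟨Set.range i, i.isClosedEmbedding.isClosed_range, fun h => ?_, fun T x hx => ?_⟩
  · haveI : Surjective i := ⟨Set.range_eq_univ.1 h⟩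
    haveI : IsIso i := isIso_of_isClosedImmersion_of_surjective i
    exact (cancel_epi i).1 (hi.trans (Category.comp_id i).symm)
  · let l : T ⟶ pullback d (pullback.diagonal f) := pullback.lift x x (by
      apply pullback.hom_ext
      · simp only [d, Category.assoc, pullback.lift_fst, pullback.diagonal_fst, Category.comp_id, hx]
      · simp only [d, Category.assoc, pullback.lift_snd, pullback.diagonal_snd, Category.comp_id])
    rintro _ ⟨t, rfl⟩
    exact ⟨l t, by rw [← Scheme.Hom.comp_apply, pullback.lift_fst]⟩

theorem exists_free_open {X B : Scheme.{u}} (f : X ⟶ B) [IsSeparated f] [IsIntegral X]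
    (G : Type u) [Group G] [Finite G] (ρ : G →* Aut X) (hρ : ∀ g : G, (ρ g).hom ≫ f = f)
    (hfaith : Function.Injective ρ) :
    ∃ U : X.Opens, (U : Set X).Nonempty ∧ (∀ g : G, (ρ g).hom ⁻¹ᵁ U = U) ∧
      ∀ (T : Scheme.{u}) [Nonempty T] (x : T ⟶ X),
        Set.range x.base ⊆ (U : Set X) → ∀ g : G, x ≫ (ρ g).hom = x → g = 1 := by
  classical
  haveI := Fintype.ofFinite G
  choose F hFc hF1 hFx using fun g => exists_fixed_closed f (ρ g).hom (hρ g)
  let V : G → X.Opens := fun g => if g = 1 then ⊤ else ⟨(F g)ᶜ, (hFc g).isOpen_compl⟩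
  have hV : ∀ g, (V g : Set X).Nonempty := fun g => by
    by_cases hg : g = 1
    · simp only [V, hg, if_true]
      exact Set.univ_nonempty
    · simp only [V, hg, if_false]
      refine Set.nonempty_compl.2 fun h => hg (hfaith ?_)
      rw [map_one]
      exact Iso.ext (hF1 g h)
  have key : ∀ {ι : Type u} (s : Finset ι) (W : ι → X.Opens), (∀ i, (W i : Set X).Nonempty) →
      ((s.inf W : X.Opens) : Set X).Nonempty := by
    intro ι s W hW
    induction s using Finset.induction with
    | empty => exact Set.univ_nonempty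
    | insert a s ha ih =>
      rw [Finset.inf_insert]
      exact nonempty_preirreducible_inter (W a).isOpen (s.inf W).isOpen (hW a) ih
  let W : X.Opens := Finset.univ.inf fun h : G => Finset.univ.inf fun g : G => (ρ h).hom ⁻¹ᵁ (V g)
  have hW : ∀ {z : X}, z ∈ W ↔ ∀ h g, (ρ h).hom z ∈ V g := fun {z} => by
    have : ∀ {ι : Type u} (s : Finset ι) (O : ι → X.Opens) (z : X), z ∈ s.inf O ↔ ∀ i ∈ s, z ∈ O i := by
      intro ι s O z
      induction s using Finset.induction with
      | empty => simp
      | insert a s ha ih =>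
        rw [Finset.inf_insert, TopologicalSpace.Opens.mem_inf, ih]
        simp
    simp [W, this]
  refine ⟨W, key _ _ fun h => key _ _ fun g => ?_, fun k => ?_, fun T _ x hx g hg => ?_⟩
  · obtain ⟨v, hv⟩ := hV g
    refine ⟨(ρ h).inv v, ?_⟩
    change (ρ h).hom ((ρ h).inv v) ∈ V g
    rw [← Scheme.Hom.comp_apply, Iso.inv_hom_id]
    exact hv
  · ext z
    have hmul : ∀ h, (ρ h).hom ((ρ k).hom z) = (ρ (h * k)).hom z := fun h => by
      rw [map_mul, ← Scheme.Hom.comp_apply]
      rfl
    change (ρ k).hom z ∈ W ↔ z ∈ W
    simp only [hW, hmul]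
    refine ⟨fun H h g => ?_, fun H h g => H _ g⟩
    have := H (h * k⁻¹) g
    rwa [inv_mul_cancel_right] at this
  · by_contra hne
    obtain ⟨t⟩ := ‹Nonempty T›
    have h1 : (ρ 1).hom (x t) ∈ V g := hW.1 (hx ⟨t, rfl⟩) 1 g
    rw [map_one] at h1
    simp only [V, hne, if_false] at h1
    exact h1 (hFx g T x hg ⟨t, rfl⟩)

end Groth.Agent.RatV44
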